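import Mathlib
import Cfsg.Agent.MetaAut.Basic
import Cfsg.Agent.RegularOmega.Basic
import Cfsg.Agent.PLocalBasics.RegularPower
import Cfsg.Agent.RankOneP.Basic

/-!
Metacyclic `p`-groups for odd `p`: they are regular, and without a cyclic subgroup of index `p` the
elements killed by `p` and by `p²` form subgroups of orders `p²` and `p⁴`.
-/

set_option autoImplicit false
set_option linter.style.haveILetI false

open scoped commutatorElement

namespace CfsgLib.MetaOmega

open CfsgLib.PLocalBasics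

universe u

variable {p : ℕ} [hp : Fact p.Prime]

/-- Product formula in class two. -/
theorem mul_pow_central {G : Type*} [Group G] {a b e : G} (he : b * a = a * b * e) (hea : Commute e a)
    (heb : Commute e b) : ∀ k : ℕ, (a * b) ^ k = a ^ k * b ^ k * e ^ k.choose 2 := by
  have hba : ∀ k : ℕ, b ^ k * a = a * b ^ k * e ^ k := by
    intro k
    induction k with
    | zero => simp
    | succ k ih =>
      calc b ^ (k + 1) * a = b * (b ^ k * a) := by rw [pow_succ', mul_assoc]
        _ = b * a * b ^ k * e ^ k := by rw [ih]; group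
        _ = a * b * (e * b ^ k) * e ^ k := by rw [he]; group
        _ = a * b ^ (k + 1) * e ^ (k + 1) := by
          rw [(heb.pow_right k).eq, pow_succ' b, pow_succ' e]; group
  intro k
  induction k with
  | zero => simp
  | succ k ih =>
    calc (a * b) ^ (k + 1) = a ^ k * b ^ k * (e ^ k.choose 2 * a) * b := by rw [pow_succ, ih]; group
      _ = a ^ k * (b ^ k * a) * (e ^ k.choose 2 * b) := by rw [(hea.pow_left _).eq]; group
      _ = a ^ k * a * b ^ k * (e ^ k * b) * e ^ k.choose 2 := by rw [hba, (heb.pow_left (k.choose 2)).eq]; group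
      _ = _ := by
        rw [(heb.pow_left k).eq, Nat.choose_succ_succ' k 1, Nat.choose_one_right, pow_add e, pow_succ, pow_succ]
        group

/-- An automorphism of `p`-power order fixes every invariant subgroup of order `p` pointwise. -/
theorem eq_of_zpow {G : Type*} [Group G] {x : G} (hx : x ^ p = 1) (f : G →* G) {i : ℤ} (hf : f x = x ^ i)
    {k : ℕ} (hk : f^[p ^ k] x = x) : f x = x := by
  by_cases hx1 : x = 1
  · simp [hx1]
  have hord : orderOf x = p := orderOf_eq_prime hx hx1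
  have hit : ∀ m : ℕ, f^[m] x = x ^ (i ^ m) := by
    intro m
    induction m with
    | zero => simp
    | succ m ih => rw [Function.iterate_succ_apply', ih, map_zpow, hf, ← zpow_mul, pow_succ', ]
  rw [hit] at hk
  have h1 : ((i : ℤ) : ZMod p) = 1 := by
    have h2 : x ^ (i ^ p ^ k - 1) = 1 := by rw [zpow_sub, hk, zpow_one, mul_inv_cancel]
    rw [← orderOf_dvd_iff_zpow_eq_one, hord, ← ZMod.intCast_zmod_eq_zero_iff_dvd] at h2
    push_cast at h2
    rwa [ZMod.pow_card_pow, sub_eq_zero] at h2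
  have h3 : x ^ (i - 1) = 1 := by
    rw [← orderOf_dvd_iff_zpow_eq_one, hord, ← ZMod.intCast_zmod_eq_zero_iff_dvd]
    push_cast
    rw [h1, sub_self]
  rw [zpow_sub, zpow_one, mul_inv_eq_one] at h3
  rw [hf, h3]

/-- In a group with cyclic derived group, `(a b)^p = a^p b^p c^p`. -/
theorem mul_pow_cyclic {G : Type*} [Group G] [Finite G] (hG : IsPGroup p G) (hp2 : p ≠ 2)
    (hc : IsCyclic ↥(commutator G)) (a b : G) :
    ∃ c ∈ commutator G, (a * b) ^ p = a ^ p * b ^ p * c ^ p := by
  obtain ⟨⟨d, hd⟩, hgen⟩ := IsCyclic.exists_zpow_surjective (G := commutator G)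
  have hmem : ∀ x ∈ commutator G, ∃ i : ℤ, d ^ i = x := fun x hx => by
    obtain ⟨i, hi⟩ := hgen ⟨x, hx⟩
    exact ⟨i, congrArg Subtype.val hi⟩
  set M := Subgroup.zpowers (d ^ p) with hM
  haveI : M.Normal := ⟨fun x hx g => by
    obtain ⟨k, rfl⟩ := hx
    obtain ⟨i, hi⟩ := hmem _ ((inferInstance : (commutator G).Normal).conj_mem d hd g)
    have e : g * (d ^ p) ^ k * g⁻¹ = (d ^ p) ^ (i * k) := by
      rw [← conj_zpow, ← conj_pow, ← hi, ← zpow_natCast, ← zpow_natCast d p, ← zpow_mul, ← zpow_mul, ← zpow_mul]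
      congr 1; ring
    exact ⟨i * k, e.symm⟩⟩
  let π := QuotientGroup.mk' M
  have hdp : π d ^ p = 1 := by
    rw [← map_pow]; exact (QuotientGroup.eq_one_iff _).2 (Subgroup.mem_zpowers _)
  have hcentral : ∀ g : G, Commute (π g) (π d) := fun g => by
    obtain ⟨i, hi⟩ := hmem _ ((inferInstance : (commutator G).Normal).conj_mem d hd g)
    obtain ⟨k, hk⟩ := hG g
    let f : G ⧸ M →* G ⧸ M := (MulAut.conj (π g)).toMonoidHom
    have hfi : ∀ m : ℕ, ∀ x, f^[m] x = π (g ^ m) * x * (π (g ^ m))⁻¹ := by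
      intro m
      induction m with
      | zero => intro x; simp
      | succ m ih =>
        intro x
        rw [Function.iterate_succ_apply', ih, pow_succ', map_mul π]
        show π g * _ * (π g)⁻¹ = _
        group
    have h : f (π d) = π d := eq_of_zpow (p := p) hdp f (i := i)
      (by show π g * π d * (π g)⁻¹ = _; rw [← map_inv, ← map_mul, ← map_mul, ← hi, map_zpow])
      (k := k) (by rw [hfi, hk, map_one]; group)
    exact mul_inv_eq_iff_eq_mul.1 h
  have he : ⁅b⁻¹, a⁻¹⁆ ∈ commutator G := Subgroup.commutator_mem_commutator (Subgroup.mem_top _) (Subgroup.mem_top _)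
  obtain ⟨i, hi⟩ := hmem _ he
  have hpe : π ⁅b⁻¹, a⁻¹⁆ ^ p = 1 := by
    rw [← hi, map_zpow, ← zpow_natCast, ← zpow_mul, mul_comm, zpow_mul, zpow_natCast, hdp, one_zpow]
  have hce : ∀ g, Commute (π ⁅b⁻¹, a⁻¹⁆) (π g) := fun g => by
    rw [← hi, map_zpow]; exact ((hcentral g).symm).zpow_left i
  have h := mul_pow_central (a := π a) (b := π b) (e := π ⁅b⁻¹, a⁻¹⁆)
    (by rw [← map_mul, ← map_mul, ← map_mul]; congr 1; rw [commutatorElement_def]; group) (hce a) (hce b) p
  obtain ⟨q, hq⟩ := hp.out.dvd_choose_self (k := 2) (by norm_num) (by have := hp.out.two_le; omega)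
  rw [hq, pow_mul, hpe, one_pow, mul_one, ← map_mul, ← map_pow, ← map_pow, ← map_pow, ← map_mul] at h
  obtain ⟨j, hj⟩ := QuotientGroup.eq.1 h.symm
  refine ⟨d ^ j, zpow_mem hd j, ?_⟩
  rw [← zpow_natCast (d ^ j), ← zpow_mul, mul_comm, zpow_mul, zpow_natCast]
  simp only at hj
  rw [hj]; group

theorem regular {L : Type u} [Group L] [Finite L] (hL : IsPGroup p L) (hp2 : p ≠ 2) (hmc : Cfsg.IsMetacyclic L) :
    Cfsg.IsRegularPGroup p L := by
  refine regular_of_step hL fun a b => ?_
  obtain ⟨c, hc, e⟩ := mul_pow_cyclic (hL.to_subgroup (pairGen a b)) hp2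
    (CfsgLib.MetaAut.isCyclic_commutator (CfsgLib.MetaAut.isMetacyclic_sub hmc (pairGen a b)))
    ⟨a, left_mem_pairGen a b⟩ ⟨b, right_mem_pairGen a b⟩
  refine ⟨c, ?_, by simpa using congrArg Subtype.val e⟩
  rw [← Subgroup.map_subtype_commutator]
  exact ⟨c, hc, rfl⟩

/-- The elements killed by `p^k`. -/
def omega {L : Type u} [Group L] [Finite L] (hR : Cfsg.IsRegularPGroup p L) (k : ℕ) : Subgroup L where
  carrier := {x | x ^ p ^ k = 1}
  one_mem' := one_pow _
  mul_mem' := fun {x y} hx hy => by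
    have h := (CfsgLib.RegularOmega.pow_eq hR k x⁻¹ y).mp (by
      rw [inv_pow, show x ^ p ^ k = 1 from hx, inv_one, show y ^ p ^ k = 1 from hy])
    rwa [inv_inv] at h
  inv_mem' := fun {x} hx => by
    show x⁻¹ ^ p ^ k = 1
    rw [inv_pow, show x ^ p ^ k = 1 from hx, inv_one]

variable {L : Type u} [Group L] [Finite L]

theorem mem_omega_one {hR : Cfsg.IsRegularPGroup p L} {x : L} : x ∈ omega hR 1 ↔ x ^ p = 1 := by
  show x ^ p ^ 1 = 1 ↔ _
  rw [pow_one]

theorem pow_mem_omega_one {hR : Cfsg.IsRegularPGroup p L} {x : L} (hx : x ∈ omega hR 2) : x ^ p ∈ omega hR 1 := by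
  rw [mem_omega_one, ← pow_mul, ← sq]
  exact hx

theorem omega_mono {hR : Cfsg.IsRegularPGroup p L} : omega hR 1 ≤ omega hR 2 := fun x hx => by
  show x ^ p ^ 2 = 1
  rw [sq, pow_mul, mem_omega_one.1 hx, one_pow]

theorem pow_eq_one_iff' {hR : Cfsg.IsRegularPGroup p L} (x y : L) : x ^ p = y ^ p ↔ x⁻¹ * y ∈ omega hR 1 := by
  have := CfsgLib.RegularOmega.pow_eq hR 1 x y
  rw [pow_one] at this
  rw [mem_omega_one]
  exact this

/-- The two layers. -/
theorem layers (hL : IsPGroup p L) (hp2 : p ≠ 2) (hmc : Cfsg.IsMetacyclic L)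
    (hnc : ∀ C : Subgroup L, IsCyclic C → C.index ≠ p) [Nontrivial L] (hR : Cfsg.IsRegularPGroup p L) :
    Nat.card (omega hR 1) = p ^ 2 ∧ Nat.card (omega hR 2) = p ^ 4 ∧
      (∀ e ∈ omega hR 1, ∃ w, w ^ p = e) ∧
      (∀ x ∈ omega hR 2, ∀ y ∈ omega hR 2, (x * y) ^ p = x ^ p * y ^ p) ∧
      (∀ e ∈ omega hR 1, ∀ w ∈ omega hR 2, Commute e w) := by
  set E := omega hR 1
  set W := omega hR 2
  obtain ⟨hset, -⟩ := regular_powers hR ⊤ 1
  set P := Cfsg.powerClosure p 1 (⊤ : Subgroup L)
  have hP : ∀ y, y ∈ P ↔ ∃ x, y = x ^ p := fun y => by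
    rw [← SetLike.mem_coe, ← hset]
    simp [pow_one]
  have hEle : Nat.card E ≤ p ^ 2 :=
    CfsgLib.MetaAut.card_le_sq (CfsgLib.MetaAut.isMetacyclic_sub hmc E) hp.out.pos fun x => Subtype.ext
      (by simpa using mem_omega_one.1 x.2)
  -- counting along the power map
  have hcount : Nat.card L = Nat.card E * Nat.card P := by
    let f : L ⧸ E → P := Quotient.lift (fun x : L => (⟨x ^ p, (hP _).2 ⟨x, rfl⟩⟩ : P)) fun x y h =>
      Subtype.ext ((pow_eq_one_iff' (hR := hR) x y).2 (QuotientGroup.leftRel_apply.1 h))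
    have hf : Function.Bijective f := by
      refine ⟨?_, fun y => ?_⟩
      · intro x y h
        induction x using QuotientGroup.induction_on with | H x =>
        induction y using QuotientGroup.induction_on with | H y =>
        exact QuotientGroup.eq.2 ((pow_eq_one_iff' (hR := hR) x y).1 (congrArg Subtype.val h))
      · obtain ⟨x, hx⟩ := (hP _).1 y.2
        exact ⟨(x : L ⧸ E), Subtype.ext hx.symm⟩
    rw [Subgroup.card_eq_card_quotient_mul_card_subgroup E, Nat.card_eq_of_bijective f hf, mul_comm]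
  have hEP : E ≤ P ∧ Nat.card E = p ^ 2 := by
    by_contra hcon
    have hsmall : Nat.card ↥(E ⊓ P) ≤ p := by
      by_contra hbig
      obtain ⟨i, hi, he⟩ := (Nat.dvd_prime_pow hp.out).1 (show Nat.card ↥(E ⊓ P) ∣ p ^ 2 from by
        obtain ⟨a, ha⟩ := IsPGroup.iff_card.mp (hL.to_subgroup (E ⊓ P))
        rw [ha]
        have h := (Subgroup.card_le_of_le (inf_le_left : E ⊓ P ≤ E)).trans hEle
        rw [ha, Nat.pow_le_pow_iff_right hp.out.one_lt] at h
        exact pow_dvd_pow p h)
      have hi2 : i = 2 := by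
        rcases Nat.lt_or_ge i 2 with h | h
        · exact absurd (he.trans_le ((Nat.pow_le_pow_right hp.out.pos (Nat.lt_succ_iff.1 h)).trans (pow_one p).le)) hbig
        · omega
      have h := Subgroup.eq_of_le_of_card_ge (inf_le_left : E ⊓ P ≤ E) (by rw [he, hi2]; exact hEle)
      exact hcon ⟨h.ge.trans inf_le_right, by rw [← h, he, hi2]⟩
    have hu : CfsgLib.RankOneP.UniqueOrderP p P := fun x y hx hy hx1 => by
      have hxm : (x : L) ∈ E ⊓ P := ⟨mem_omega_one.2 (by simpa using congrArg Subtype.val hx), x.2⟩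
      have hym : (y : L) ∈ E ⊓ P := ⟨mem_omega_one.2 (by simpa using congrArg Subtype.val hy), y.2⟩
      have ho : orderOf (x : L) = p := orderOf_eq_prime (by simpa using congrArg Subtype.val hx)
        fun e => hx1 (Subtype.ext e)
      have hz : Subgroup.zpowers (x : L) = E ⊓ P := Subgroup.eq_of_le_of_card_ge (Subgroup.zpowers_le.2 hxm)
        (by rw [Nat.card_zpowers, ho]; exact hsmall)
      obtain ⟨i, hi⟩ := hz.ge hym
      exact ⟨i, Subtype.ext (by simpa using hi)⟩
    haveI := CfsgLib.RankOneP.isCyclic_of_odd hp2 (hL.to_subgroup P) hu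
    obtain ⟨⟨g, hg⟩, hgen⟩ := IsCyclic.exists_zpow_surjective (G := P)
    obtain ⟨y, rfl⟩ := (hP g).1 hg
    have hcardP : Nat.card P ≤ orderOf (y ^ p) := by
      rw [← Nat.card_zpowers]
      exact Subgroup.card_le_of_le fun z hz => by
        obtain ⟨i, hi⟩ := hgen ⟨z, hz⟩
        exact ⟨i, congrArg Subtype.val hi⟩
    obtain ⟨y', hy', hle⟩ : ∃ y' : L, y' ≠ 1 ∧ Nat.card L ≤ p * orderOf y' := by
      by_cases hy : y = 1
      · subst hy
        simp only [one_pow, orderOf_one] at hcardP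
        have hall : ∀ x : L, x ^ p = 1 := fun x => by
          have h : x ^ p ∈ P := (hP _).2 ⟨x, rfl⟩
          rwa [Subgroup.card_eq_one.1 (le_antisymm hcardP Nat.card_pos), Subgroup.mem_bot] at h
        obtain ⟨x, hx⟩ := exists_ne (1 : L)
        refine ⟨x, hx, ?_⟩
        rw [orderOf_eq_prime (hall x) hx, ← sq, hcount]
        calc Nat.card E * Nat.card P ≤ p ^ 2 * 1 := Nat.mul_le_mul hEle hcardP
          _ = p ^ 2 := mul_one _
      · refine ⟨y, hy, ?_⟩
        obtain ⟨M, hM⟩ := IsPGroup.iff_orderOf.1 hL y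
        have hpd : p ∣ orderOf y := by
          rcases M with _ | M
          · exact absurd (orderOf_eq_one_iff.1 (by simpa using hM)) hy
          · rw [hM]; exact dvd_pow_self p M.succ_ne_zero
        rw [orderOf_pow_of_dvd hp.out.ne_zero hpd] at hcardP
        rw [hcount]
        calc Nat.card E * Nat.card P ≤ p ^ 2 * (orderOf y / p) := Nat.mul_le_mul hEle hcardP
          _ = p * (p * (orderOf y / p)) := by ring
          _ = p * orderOf y := by rw [Nat.mul_div_cancel' hpd]
    set C := Subgroup.zpowers y' with hC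
    have hCi : C.index ≤ p := by
      have h := C.card_mul_index
      rw [hC, Nat.card_zpowers] at h
      exact Nat.le_of_mul_le_mul_left ((h.trans_le hle).trans_eq (mul_comm _ _)) (orderOf_pos y')
    obtain ⟨i, hi⟩ := hL.index C
    rw [hi] at hCi
    rcases Nat.lt_or_ge i 1 with h0 | h1
    · obtain rfl : i = 0 := by omega
      rw [pow_zero, Subgroup.index_eq_one] at hi
      obtain ⟨M, hM⟩ := IsPGroup.iff_orderOf.1 hL y'
      have hpd : p ∣ orderOf y' := by
        rcases M with _ | M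
        · exact absurd (orderOf_eq_one_iff.1 (by simpa using hM)) hy'
        · rw [hM]; exact dvd_pow_self p M.succ_ne_zero
      refine hnc (Subgroup.zpowers (y' ^ p)) inferInstance ?_
      have h := (Subgroup.zpowers (y' ^ p)).card_mul_index
      rw [Nat.card_zpowers, orderOf_pow_of_dvd hp.out.ne_zero hpd, ← Subgroup.card_top, ← hi, hC,
        Nat.card_zpowers] at h
      refine Nat.eq_of_mul_eq_mul_left (Nat.div_pos (Nat.le_of_dvd (orderOf_pos y') hpd) hp.out.pos) ?_
      rw [h, Nat.div_mul_cancel hpd]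
    · refine hnc C inferInstance ?_
      rw [hi, show i = 1 from le_antisymm ((Nat.pow_le_pow_iff_right hp.out.one_lt).1 (hCi.trans_eq (pow_one p).symm)) h1, pow_one]
  obtain ⟨hle, hE⟩ := hEP
  have hroot : ∀ e ∈ E, ∃ w, w ^ p = e := fun e he => by
    obtain ⟨w, rfl⟩ := (hP e).1 (hle he)
    exact ⟨w, rfl⟩
  -- the second layer
  haveI hEn : (E.subgroupOf W).Normal := ⟨fun x hx g => by
    rw [Subgroup.mem_subgroupOf, mem_omega_one] at hx ⊢
    simp only [Subgroup.coe_mul, InvMemClass.coe_inv, conj_pow, hx, mul_one, mul_inv_cancel]⟩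
  let g : ↥W ⧸ E.subgroupOf W → E := Quotient.lift (fun x : W => (⟨(x : L) ^ p, pow_mem_omega_one x.2⟩ : E))
    fun x y h => Subtype.ext ((pow_eq_one_iff' (hR := hR) (x : L) y).2
      (Subgroup.mem_subgroupOf.1 (QuotientGroup.leftRel_apply.1 h)))
  have hg : Function.Bijective g := by
    refine ⟨?_, fun e => ?_⟩
    · intro x y h
      induction x using QuotientGroup.induction_on with | H x =>
      induction y using QuotientGroup.induction_on with | H y =>
      exact QuotientGroup.eq.2 (Subgroup.mem_subgroupOf.2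
        ((pow_eq_one_iff' (hR := hR) (x : L) y).1 (congrArg Subtype.val h)))
    · obtain ⟨w, hw⟩ := hroot e e.2
      have hwW : w ∈ W := by
        show w ^ p ^ 2 = 1
        rw [sq, pow_mul, hw]; exact mem_omega_one.1 e.2
      exact ⟨((⟨w, hwW⟩ : W) : ↥W ⧸ E.subgroupOf W), Subtype.ext hw⟩
  have hQ : Nat.card (↥W ⧸ E.subgroupOf W) = p ^ 2 := (Nat.card_eq_of_bijective g hg).trans hE
  have hW : Nat.card W = p ^ 4 := by
    rw [Subgroup.card_eq_card_quotient_mul_card_subgroup (E.subgroupOf W), hQ,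
      Nat.card_congr (Subgroup.subgroupOfEquivOfLe omega_mono).toEquiv, hE, ← pow_add]
  have hcomm : ∀ x ∈ W, ∀ y ∈ W, ⁅x, y⁆ ∈ E := fun x hx y hy => by
    have h := IsPGroup.commutative_of_card_eq_prime_sq hQ
    have h1 : ((⁅(⟨x, hx⟩ : W), (⟨y, hy⟩ : W)⁆ : W) : ↥W ⧸ E.subgroupOf W) = 1 := by
      rw [← QuotientGroup.mk'_apply, map_commutatorElement, commutatorElement_eq_one_iff_mul_comm]
      exact h _ _
    exact Subgroup.mem_subgroupOf.1 ((QuotientGroup.eq_one_iff _).1 h1)
  refine ⟨hE, hW, hroot, fun x hx y hy => ?_, fun e he w hw => ?_⟩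
  · obtain ⟨c, hc, hxy⟩ := step_of_regular hR x y
    have hcE : c ∈ E := by
      refine (?_ : ⁅pairGen x y, pairGen x y⁆ ≤ E) hc
      exact Subgroup.commutator_le.2 fun u hu v hv =>
        hcomm u (pairGen_le hx hy hu) v (pairGen_le hx hy hv)
    rw [hxy, mem_omega_one.1 hcE, mul_one]
  · obtain ⟨x, rfl⟩ := hroot e he
    have hxW : x ∈ W := by
      show x ^ p ^ 2 = 1
      rw [sq, pow_mul]; exact mem_omega_one.1 he
    have hm := hcomm w hw x hxW
    have h1 : (w * x * w⁻¹) ^ p = x ^ p := by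
      refine (pow_eq_one_iff' (hR := hR) _ _).2 ?_
      rw [show (w * x * w⁻¹)⁻¹ * x = (⁅w, x⁻¹⁆) by rw [commutatorElement_def]; group]
      exact hcomm w hw x⁻¹ (W.inv_mem hxW)
    rw [conj_pow, mul_inv_eq_iff_eq_mul] at h1
    exact h1.symm

end CfsgLib.MetaOmega
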