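import Cfsg.Agent.MetaOmega.Basic
import Cfsg.Agent.MaxPearl.PowerBound
import Cfsg.Agent.S4143

/-!
An automorphism of order `p` of a metacyclic `p`-group without cyclic subgroups of index `p` moves the
elements of order `p` exactly when `p = 3` and the semidirect product has maximal class.
-/

set_option autoImplicit false
set_option linter.style.haveILetI false

open scoped commutatorElement

namespace CfsgLib.MetaOmega

universe u

variable {p : ℕ} [hp : Fact p.Prime] {L : Type u} [Group L] [Finite L]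

theorem aut_mem_omega {hR : Cfsg.IsRegularPGroup p L} (f : MulAut L) {k : ℕ} {x : L} (hx : x ∈ omega hR k) :
    f x ∈ omega hR k := by
  show f x ^ p ^ k = 1
  rw [← map_pow, show x ^ p ^ k = 1 from hx, map_one]

theorem aut_iterate (a : MulAut L) (k : ℕ) (x : L) : a^[k] x = (a ^ k) x := by
  induction k with
  | zero => simp
  | succ k ih => rw [Function.iterate_succ_apply', ih, pow_succ', MulAut.mul_apply]

/-- The moved case: `p = 3` and the fixed points have order `p`. -/
theorem of_moved (hL : IsPGroup p L) (hp2 : p ≠ 2) (hmc : Cfsg.IsMetacyclic L)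
    (hnc : ∀ C : Subgroup L, IsCyclic C → C.index ≠ p) {hR : Cfsg.IsRegularPGroup p L}
    (a : MulAut L) (ha : a ^ p = 1) {x₀ : L} (hx₀ : x₀ ^ p = 1) (hmove : a x₀ ≠ x₀) :
    p = 3 ∧ ∀ c : L, a c = c → c ^ p = 1 := by
  have hp' := hp.out
  haveI : Nontrivial L := ⟨⟨x₀, 1, fun e => hmove (by rw [e, map_one])⟩⟩
  obtain ⟨hE, hW, hroot, hmul, hcen⟩ := layers hL hp2 hmc hnc hR
  set E := omega hR 1
  set W := omega hR 2
  have hiter : ∀ x : L, a^[p ^ 1] x = x := fun x => by rw [pow_one, aut_iterate, ha, MulAut.one_apply]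
  -- the fixed points in `E`
  let F : Subgroup L :=
    { carrier := {e | e ∈ E ∧ a e = e}
      one_mem' := ⟨one_mem _, map_one a⟩
      mul_mem' := fun hx hy => ⟨mul_mem hx.1 hy.1, by rw [map_mul, hx.2, hy.2]⟩
      inv_mem' := fun hx => ⟨inv_mem hx.1, by rw [map_inv, hx.2]⟩ }
  have hFlt : F < E := lt_of_le_of_ne (fun e he => he.1) fun e => hmove (e.ge (mem_omega_one.2 hx₀)).2
  have hFcard : Nat.card F ≤ p := by
    obtain ⟨i, hi, he⟩ := (Nat.dvd_prime_pow hp').1 ((Subgroup.card_dvd_of_le hFlt.le).trans hE.dvd)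
    rcases Nat.lt_or_ge i 2 with h | h
    · rw [he]; exact (Nat.pow_le_pow_right hp'.pos (Nat.lt_succ_iff.1 h)).trans (pow_one p).le
    · exact absurd (Subgroup.eq_of_le_of_card_ge hFlt.le (by rw [he, hE]; exact Nat.pow_le_pow_right hp'.pos h)) hFlt.ne
  -- the displacement of an element of `E` is fixed
  have hEcomm : ∀ u ∈ E, ∀ v ∈ E, Commute u v := fun u hu v hv => hcen u hu v (omega_mono hv)
  have hdE : ∀ e ∈ E, e⁻¹ * a e ∈ E := fun e he => mul_mem (inv_mem he) (aut_mem_omega a he)
  let D : Subgroup L :=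
    { carrier := {d | ∃ e ∈ E, d = e⁻¹ * a e}
      one_mem' := ⟨1, one_mem _, by simp⟩
      mul_mem' := by
        rintro _ _ ⟨e, he, rfl⟩ ⟨f, hf, rfl⟩
        refine ⟨e * f, mul_mem he hf, ?_⟩
        rw [mul_inv_rev, map_mul]
        calc e⁻¹ * a e * (f⁻¹ * a f) = (e⁻¹ * a e) * f⁻¹ * a f := by group
          _ = f⁻¹ * (e⁻¹ * a e) * a f := by rw [((hEcomm _ (hdE e he) _ (inv_mem hf))).eq]
          _ = f⁻¹ * e⁻¹ * (a e * a f) := by group
      inv_mem' := by
        rintro _ ⟨e, he, rfl⟩
        refine ⟨e⁻¹, inv_mem he, ?_⟩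
        rw [map_inv, inv_inv, mul_inv_rev, inv_inv, (hEcomm _ (inv_mem (aut_mem_omega a he)) _ he).eq] }
  have hDF : ∀ e ∈ E, e⁻¹ * a e ∈ F := by
    intro e he
    refine ⟨hdE e he, ?_⟩
    by_cases hd : e⁻¹ * a e = 1
    · rw [hd, map_one]
    have hDle : D ≤ E := by rintro _ ⟨f, hf, rfl⟩; exact hdE f hf
    -- `D` has order `p`: otherwise the fixed points of `a` in `E` are trivial
    have hDne : D ≠ E := by
      intro h
      have hinjfix : ∀ f ∈ E, a f = f → f = 1 := by
        intro f hf hff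
        let φ : E → E := fun e => ⟨(e : L)⁻¹ * a e, hdE e e.2⟩
        have hsur : Function.Surjective φ := fun d => by
          obtain ⟨e', he', hd'⟩ := h.ge d.2
          exact ⟨⟨e', he'⟩, Subtype.ext hd'.symm⟩
        have := (Finite.injective_iff_surjective.2 hsur) (a₁ := ⟨f, hf⟩) (a₂ := 1) (Subtype.ext (by simp [φ, hff]))
        exact congrArg Subtype.val this
      -- a `p`-group acting on `E` has a fixed point
      haveI : Fintype E := Fintype.ofFinite _
      let ψ : Equiv.Perm E := { toFun := fun e => ⟨a e, aut_mem_omega a e.2⟩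
                                invFun := fun e => ⟨a⁻¹ e, aut_mem_omega a⁻¹ e.2⟩
                                left_inv := fun e => Subtype.ext (MulEquiv.symm_apply_apply a e)
                                right_inv := fun e => Subtype.ext (MulEquiv.apply_symm_apply a e) }
      have hψk : ∀ (k : ℕ) (e : E), ((ψ ^ k) e : L) = a^[k] e := by
        intro k
        induction k with
        | zero => intro e; simp
        | succ k ih => intro e; rw [pow_succ', Equiv.Perm.mul_apply, Function.iterate_succ_apply', ← ih]; rfl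
      have hψ : ψ ^ p ^ 1 = 1 := Equiv.ext fun e => Subtype.ext (by rw [hψk, hiter]; rfl)
      obtain ⟨f, hf, hne⟩ := Equiv.Perm.exists_fixed_point_of_prime' (p := p) (n := 1)
        (by rw [← Nat.card_eq_fintype_card, hE]; exact dvd_pow_self p (by norm_num)) hψ
        (a := (1 : E)) (Subtype.ext (by simp [ψ]))
      exact hne (Subtype.ext (hinjfix f f.2 (congrArg Subtype.val hf)))
    have hDcard : Nat.card D ≤ p := by
      obtain ⟨i, hi, hc⟩ := (Nat.dvd_prime_pow hp').1 ((Subgroup.card_dvd_of_le hDle).trans hE.dvd)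
      rcases Nat.lt_or_ge i 2 with h | h
      · rw [hc]; exact (Nat.pow_le_pow_right hp'.pos (Nat.lt_succ_iff.1 h)).trans (pow_one p).le
      · exact absurd (Subgroup.eq_of_le_of_card_ge hDle (by rw [hc, hE]; exact Nat.pow_le_pow_right hp'.pos h)) hDne
    set d := e⁻¹ * a e with hd'
    have hdD : d ∈ D := ⟨e, he, rfl⟩
    have hdp : d ^ p = 1 := mem_omega_one.1 (hdE e he)
    have hz : Subgroup.zpowers d = D := Subgroup.eq_of_le_of_card_ge (Subgroup.zpowers_le.2 hdD)
      (by rw [Nat.card_zpowers, orderOf_eq_prime hdp hd]; exact hDcard)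
    obtain ⟨i, hi⟩ := hz.ge (show a d ∈ D from ⟨a e, aut_mem_omega a he, by rw [hd', map_mul, map_inv]⟩)
    exact eq_of_zpow (p := p) hdp a.toMonoidHom (i := i) hi.symm (k := 1) (hiter d)
  obtain ⟨w, hw⟩ := hroot x₀ (mem_omega_one.2 hx₀)
  have hwW : w ∈ W := by
    show w ^ p ^ 2 = 1
    rw [sq, pow_mul, hw, hx₀]
  set v := w⁻¹ * a w with hv_def
  have hvW : v ∈ W := mul_mem (inv_mem hwW) (aut_mem_omega a hwW)
  have hvp : v ^ p = x₀⁻¹ * a x₀ := by
    rw [hv_def, hmul _ (inv_mem hwW) _ (aut_mem_omega a hwW), inv_pow, ← map_pow, hw]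
  have hvne : v ^ p ≠ 1 := by
    rw [hvp, ne_eq, inv_mul_eq_one]; exact fun e => hmove e.symm
  have hvF : v ^ p ∈ F := by rw [hvp]; exact hDF x₀ (mem_omega_one.2 hx₀)
  set e1 := v⁻¹ * a v with he1
  have he1E : e1 ∈ E := (pow_eq_one_iff' (hR := hR) v (a v)).1 (by rw [← map_pow, hvF.2])
  set e2 := e1⁻¹ * a e1 with he2
  have he2F : e2 ∈ F := hDF e1 he1E
  have hc12 : Commute e1 e2 := hEcomm _ he1E _ he2F.1
  have hc1v : Commute e1 v := hcen _ he1E _ hvW
  have hc2v : Commute e2 v := hcen _ he2F.1 _ hvW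
  have hae1 : a e1 = e1 * e2 := (mul_inv_cancel_left e1 _).symm
  have hav : a v = v * e1 := (mul_inv_cancel_left v _).symm
  have hai : ∀ i : ℕ, a^[i] v = v * e1 ^ i * e2 ^ i.choose 2 := by
    intro i
    induction i with
    | zero => simp
    | succ i ih =>
      rw [Function.iterate_succ_apply', ih, map_mul, map_mul, map_pow, map_pow, hav, hae1, he2F.2,
        hc12.mul_pow, Nat.choose_succ_succ' i 1, Nat.choose_one_right, pow_succ' e1, pow_add e2]
      group
  have hsum : ∀ k : ℕ, a^[k] w = w * (v ^ k * e1 ^ k.choose 2 * e2 ^ k.choose 3) := by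
    intro k
    induction k with
    | zero => simp
    | succ k ih =>
      rw [Function.iterate_succ_apply, show a w = w * v from (mul_inv_cancel_left w _).symm,
        aut_iterate, map_mul, ← aut_iterate, ← aut_iterate, ih, hai, Nat.choose_succ_succ' k 1, Nat.choose_one_right,
        Nat.choose_succ_succ' k 2, pow_succ, Nat.add_comm k (k.choose 2), pow_add e1, Nat.add_comm (k.choose 2) (k.choose 3),
        pow_add e2]
      calc w * (v ^ k * e1 ^ k.choose 2 * e2 ^ k.choose 3) * (v * e1 ^ k * e2 ^ k.choose 2)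
          = w * (v ^ k * e1 ^ k.choose 2 * (e2 ^ k.choose 3 * v) * e1 ^ k * e2 ^ k.choose 2) := by group
        _ = w * (v ^ k * (e1 ^ k.choose 2 * v) * (e2 ^ k.choose 3 * e1 ^ k) * e2 ^ k.choose 2) := by
          rw [(hc2v.pow_left _).eq]; group
        _ = _ := by rw [(hc1v.pow_left _).eq, (hc12.symm.pow_pow _ _).eq]; group
  have he1p : e1 ^ p = 1 := mem_omega_one.1 he1E
  have he2p : e2 ^ p = 1 := mem_omega_one.1 he2F.1
  have hfinal := hsum p
  rw [show a^[p] w = w by simpa using hiter w, left_eq_mul] at hfinal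
  obtain ⟨q, hq⟩ := hp'.dvd_choose_self (k := 2) (by norm_num) (by have := hp'.two_le; omega)
  rw [hq, pow_mul, he1p, one_pow, mul_one] at hfinal
  have hp3 : p = 3 := by
    by_contra h3
    have hp4 : 3 < p := by have := hp'.two_le; omega
    obtain ⟨q', hq'⟩ := hp'.dvd_choose_self (k := 3) (by norm_num) hp4
    rw [hq', pow_mul, he2p, one_pow, mul_one] at hfinal
    exact hvne hfinal
  refine ⟨hp3, fun c hc => ?_⟩
  by_contra hcp
  obtain ⟨M, hM⟩ := hL c
  classical
  have hex : ∃ k, c ^ p ^ (k + 1) = 1 := ⟨M, by rw [pow_succ, pow_mul, hM, one_pow]⟩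
  set k := Nat.find hex with hk_def
  have hk : c ^ p ^ (k + 1) = 1 := Nat.find_spec hex
  have hk0 : 1 ≤ k := by
    by_contra h0
    rw [show k = 0 by omega] at hk
    exact hcp (by simpa using hk)
  have hk' : c ^ p ^ k ≠ 1 := fun h => Nat.find_min hex (show k - 1 < k by omega) (by rwa [Nat.sub_add_cancel hk0])
  set d := c ^ p ^ (k - 1) with hd_def
  have hdp : d ^ p = c ^ p ^ k := by rw [hd_def, ← pow_mul, ← pow_succ, Nat.sub_add_cancel hk0]
  have hdW : d ∈ W := by
    show d ^ p ^ 2 = 1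
    rw [sq, pow_mul, hdp, ← pow_mul, ← pow_succ, hk]
  have hdF : d ^ p ∈ F := ⟨pow_mem_omega_one hdW, by rw [hd_def, map_pow, map_pow, hc]⟩
  have hdne : d ^ p ≠ 1 := hdp ▸ hk'
  have hz : Subgroup.zpowers (d ^ p) = F := Subgroup.eq_of_le_of_card_ge (Subgroup.zpowers_le.2 hdF)
    (by rw [Nat.card_zpowers, orderOf_eq_prime (mem_omega_one.1 hdF.1) hdne]; exact hFcard)
  obtain ⟨i, hi⟩ := hz.ge hvF
  replace hi : (d ^ p) ^ i = v ^ p := hi
  have hf : (d ^ i)⁻¹ * v ∈ E := (pow_eq_one_iff' (hR := hR) _ _).1 (by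
    rw [← hi, ← zpow_natCast, ← zpow_natCast d p, ← zpow_mul, ← zpow_mul, mul_comm])
  have he1' : e1 ∈ F := by
    set f := (d ^ i)⁻¹ * v with hf_def
    have e : e1 = f⁻¹ * a f := by
      have had : a d = d := by rw [hd_def, map_pow, hc]
      rw [he1, hf_def, map_mul a ((d ^ i)⁻¹) v, map_inv, map_zpow a d i, had]; group
    exact e ▸ hDF f hf
  rw [show e2 = 1 by rw [he2, he1'.2, inv_mul_cancel], one_pow, mul_one] at hfinal
  exact hvne hfinal

open CfsgLib.MaxPearl CfsgLib.MaxPearlC in
/-- If every element of order `3` is fixed, the semidirect product is not of maximal class. -/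
theorem exists_moved (hL : IsPGroup p L) (hp2 : p ≠ 2) (hmc : Cfsg.IsMetacyclic L)
    (hnc : ∀ C : Subgroup L, IsCyclic C → C.index ≠ p) (a : MulAut L) (ha : orderOf a = p)
    (m : ℕ) (hm : Nat.card L = p ^ m) (h3 : p = 3)
    (hcl : Group.nilpotencyClass (SemidirectProduct L ↥(Subgroup.zpowers a) (Subgroup.zpowers a).subtype) = m) :
    ∃ x : L, orderOf x = p ∧ a x ≠ x := by
  classical
  have hp' := hp.out
  subst h3
  by_contra hcon
  push Not at hcon
  rcases subsingleton_or_nontrivial L with hs | hs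
  · exact absurd ha (by rw [show a = 1 from MulEquiv.ext fun x => Subsingleton.elim _ _, orderOf_one]; norm_num)
  have hR := regular hL hp2 hmc
  obtain ⟨hE, hW, hroot, hmul, hcen⟩ := layers hL hp2 hmc hnc hR
  set E := omega hR 1
  set W := omega hR 2
  have hfix : ∀ e ∈ E, a e = e := fun e he => by
    by_cases h1 : e = 1
    · rw [h1, map_one]
    · exact hcon e (orderOf_eq_prime (mem_omega_one.1 he) h1)
  have hm4 : 4 ≤ m := by
    have := Subgroup.card_le_card_group W
    rwa [hW, hm, Nat.pow_le_pow_iff_right (by norm_num)] at this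
  set A := Subgroup.zpowers a
  set G := SemidirectProduct L ↥A A.subtype
  haveI : Finite G := Finite.of_equiv _ (SemidirectProduct.equivProd (φ := A.subtype)).symm
  have hA : Nat.card A = 3 := (Nat.card_zpowers a).trans ha
  have hG : Nat.card G = 3 ^ (m + 1) := by rw [SemidirectProduct.card, hm, hA, pow_succ]
  have hpG := IsPGroup.of_card hG
  obtain ⟨T, c, hlcs⟩ := exists_chain hG (by rw [hcl]; rfl) (by omega)
  haveI : ∀ j, (T j).Normal := c.normal
  obtain ⟨s, d⟩ := exists_seed (p := 3) _ c (moves_of_lcs c hlcs)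
  let a' : A := ⟨a, Subgroup.mem_zpowers a⟩
  let r : G := SemidirectProduct.inr a'
  set E' : Subgroup G := E.map SemidirectProduct.inl
  set W' : Subgroup G := W.map SemidirectProduct.inl
  have hE' : Nat.card E' = 3 ^ 2 := by rw [Subgroup.card_map_of_injective SemidirectProduct.inl_injective, hE]
  have hW' : Nat.card W' = 3 ^ 4 := by rw [Subgroup.card_map_of_injective SemidirectProduct.inl_injective, hW]
  have hnorm : ∀ k, (omega hR k).map (SemidirectProduct.inl : L →* G) |>.Normal := fun k => ⟨by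
    rintro _ ⟨x, hx, rfl⟩ g
    refine ⟨g.left * (g.right : MulAut L) x * g.left⁻¹, ?_, ?_⟩
    · show (g.left * (g.right : MulAut L) x * g.left⁻¹) ^ 3 ^ k = 1
      rw [conj_pow, show ((g.right : MulAut L) x) ^ 3 ^ k = 1 from aut_mem_omega (hR := hR) _ hx, mul_one,
        mul_inv_cancel]
    · rw [map_mul, map_mul, map_inv, show SemidirectProduct.inl ((g.right : MulAut L) x) =
        SemidirectProduct.inr g.right * SemidirectProduct.inl x * SemidirectProduct.inr g.right⁻¹ from
          SemidirectProduct.inl_aut (φ := A.subtype) g.right x]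
      conv_rhs => rw [← SemidirectProduct.inl_left_mul_inr_right g]
      rw [map_inv]
      group⟩
  haveI hE'n : E'.Normal := hnorm 1
  haveI hW'n : W'.Normal := hnorm 2
  have hTcard : ∀ {H : Subgroup G} {j : ℕ}, j ≤ m + 1 → H ≤ T j → Nat.card H ≤ 3 ^ (m + 1 - j) := fun hj h =>
    (Subgroup.card_le_of_le h).trans (c.card _ hj).le
  -- `E'` is the third last level
  have hET : E' = T (m + 1 - 2) := by
    refine Subgroup.eq_of_le_of_card_ge (fun e he => ?_) (by
      rw [hE', c.card _ (by omega), show m + 1 - (m + 1 - 2) = 2 by omega])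
    by_contra hne
    obtain ⟨j, hj, hj1, hj2⟩ := c.level (x := e) fun h => hne (h ▸ one_mem _)
    have hjhi : j + 3 ≤ m + 1 := by
      by_contra h0
      exact hne (c.anti (by omega) hj1)
    have hlo : 1 ≤ j := by
      by_contra h0
      obtain rfl : j = 0 := by omega
      -- an element of `E'` outside `T 1` has a nontrivial commutator on level two
      obtain ⟨u, hu, hu'⟩ := c.exists_level (j := 1) (by omega)
      have hlevel : ∀ g : G, g ∉ T 1 → ⁅g, u⁆ ∉ T 3 := fun g hg h => by
        obtain ⟨k, -, v, hv, hsv⟩ := c.gen (j := 0) (by omega) (u := g) (c.zero ▸ Subgroup.mem_top g) hg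
          (c.zero ▸ Subgroup.mem_top s)
        refine d.exact c le_rfl (by omega) hu hu' ?_
        rw [← commute_mk, hsv, map_mul, map_pow]
        exact ((commute_mk.2 h).pow_left k).mul_left
          (commute_mk.2 (c.anti (by omega) (c.comm_one hv hu)))
      have h1 : ⁅e, u⁆ ∈ E' := by
        rw [show ⁅e, u⁆ = e * (u * e⁻¹ * u⁻¹) by rw [commutatorElement_def]; simp only [mul_assoc]]
        exact E'.mul_mem he (hE'n.conj_mem _ (E'.inv_mem he) u)
      have h2 : ⁅s, ⁅e, u⁆⁆ ∈ E' := by
        rw [commutatorElement_def]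
        exact E'.mul_mem (hE'n.conj_mem _ h1 s) (E'.inv_mem h1)
      have l1 : ⁅e, u⁆ ∈ T 2 := comm_mem_symm.1 (c.mem_step le_rfl hu e) |> comm_mem_symm.1
      have l2 := hlevel e hj2
      have l3 : ⁅s, ⁅e, u⁆⁆ ∈ T 3 := c.mem_step (by omega) l1 s
      have l4 := d.exact c (j := 2) (by omega) (by omega) l1 l2
      have c1 : Nat.card ↥(E' ⊓ T 2) * 3 ≤ Nat.card E' :=
        Cfsg.Agent.S4143.card_mul_le_of_lt hpG inf_le_left fun h => hj2 (c.anti (by omega) (h.ge he).2)
      have c2 : Nat.card ↥(E' ⊓ T 3) * 3 ≤ Nat.card ↥(E' ⊓ T 2) :=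
        Cfsg.Agent.S4143.card_mul_le_of_lt hpG (inf_le_inf_left _ (c.anti (by omega))) fun h => l2 (h.ge ⟨h1, l1⟩).2
      have c3 : Nat.card ↥(E' ⊓ T 4) * 3 ≤ Nat.card ↥(E' ⊓ T 3) :=
        Cfsg.Agent.S4143.card_mul_le_of_lt hpG (inf_le_inf_left _ (c.anti (by omega))) fun h => l4 (h.ge ⟨h2, l3⟩).2
      have : 0 < Nat.card ↥(E' ⊓ T 4) := Nat.card_pos
      omega
    have h1 : ⁅s, e⁆ ∈ E' := by
      rw [commutatorElement_def]; exact E'.mul_mem (hE'n.conj_mem _ he s) (E'.inv_mem he)
    have h2 : ⁅s, ⁅s, e⁆⁆ ∈ E' := by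
      rw [commutatorElement_def]; exact E'.mul_mem (hE'n.conj_mem _ h1 s) (E'.inv_mem h1)
    have l1 := c.mem_step hlo hj1 s
    have l2 := d.exact c hlo (by omega) hj1 hj2
    have l3 := c.mem_step (by omega) l1 s
    have l4 := d.exact c (j := j + 1) (by omega) (by omega) l1 l2
    have c1 : Nat.card ↥(E' ⊓ T (j + 1)) * 3 ≤ Nat.card E' :=
      Cfsg.Agent.S4143.card_mul_le_of_lt hpG inf_le_left fun h => hj2 (h.ge he).2
    have c2 : Nat.card ↥(E' ⊓ T (j + 2)) * 3 ≤ Nat.card ↥(E' ⊓ T (j + 1)) :=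
      Cfsg.Agent.S4143.card_mul_le_of_lt hpG (inf_le_inf_left _ (c.anti (by omega))) fun h => l2 (h.ge ⟨h1, l1⟩).2
    have c3 : Nat.card ↥(E' ⊓ T (j + 3)) * 3 ≤ Nat.card ↥(E' ⊓ T (j + 2)) :=
      Cfsg.Agent.S4143.card_mul_le_of_lt hpG (inf_le_inf_left _ (c.anti (by omega))) fun h => l4 (h.ge ⟨h2, l3⟩).2
    have : 0 < Nat.card ↥(E' ⊓ T (j + 3)) := Nat.card_pos
    omega
  -- `r` moves `W'` into `E'`
  have hr : ∀ w ∈ W', ⁅r, w⁆ ∈ E' := by
    rintro _ ⟨x, hx, rfl⟩
    refine ⟨a x * x⁻¹, ?_, ?_⟩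
    · have h := (pow_eq_one_iff' (hR := hR) (a x)⁻¹ x⁻¹).1 (by
        rw [inv_pow, inv_pow, ← map_pow, hfix _ (pow_mem_omega_one hx)])
      rwa [inv_inv] at h
    · rw [map_mul, map_inv, commutatorElement_def, show SemidirectProduct.inl (a x) =
        SemidirectProduct.inr a' * SemidirectProduct.inl x * SemidirectProduct.inr a'⁻¹ from
          SemidirectProduct.inl_aut (φ := A.subtype) a' x, map_inv]
  -- the centralizers of two steps below the centre are `T 1`
  have hT1 : ∀ j, 1 ≤ j → j + 3 ≤ m + 1 → twoStep T j = T 1 := by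
    have hge : ∀ j, 1 ≤ j → j + 3 ≤ m + 1 → T 1 ≤ twoStep T j := by
      intro j
      induction j using Nat.strong_induction_on with
      | _ j ih =>
      intro hj1 hj2
      rcases Nat.lt_or_ge j 3 with h | h
      · intro g hg
        rw [mem_twoStep]
        intro u hu
        rcases (show j = 1 ∨ j = 2 by omega) with rfl | rfl
        · exact c.anti (by omega) (c.comm_one hg hu)
        · exact c.def12 (Subgroup.commutator_mem_commutator hg hu)
      · have c' := chain_quotient c (by omega)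
        have hm' : Moves (m + 1 - 1) (fun i => (T i).map (QuotientGroup.mk' (T (m + 1 - 1)))) := by
          intro i hi1 hi2
          obtain ⟨g, u, hu, hgu⟩ := moves_of_lcs c hlcs i hi1 (by omega)
          refine ⟨QuotientGroup.mk' _ g, QuotientGroup.mk' _ u, ⟨u, hu, rfl⟩, ?_⟩
          rw [← map_commutatorElement]
          rintro ⟨z, hz, he⟩
          have := QuotientGroup.eq.1 he
          exact hgu ((Subgroup.mul_mem_cancel_left _ ((T (i + 2)).inv_mem hz)).1 (c.anti (by omega) this))
        obtain ⟨s', d'⟩ := exists_seed (p := 3) _ c' hm'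
        have hstep := twoStep_le c d' (j := j - 2) (by omega) (by omega)
        simp only [show j - 2 + (3 - 1) = j by omega] at hstep
        exact (ih (j - 2) (by omega) (by omega) (by omega)).trans hstep
    intro j hj1 hj2
    refine (Subgroup.eq_of_le_of_card_ge (hge j hj1 hj2) ?_).symm
    by_contra hlt
    have htop : twoStep T j ≠ ⊤ := fun h => by
      obtain ⟨g, u, hu, hgu⟩ := moves_of_lcs c hlcs j hj1 (by omega)
      exact hgu (mem_twoStep.1 (h ▸ Subgroup.mem_top g : g ∈ twoStep T j) u hu)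
    have h1 := Cfsg.Agent.S4143.card_mul_le_of_lt hpG (le_top : twoStep T j ≤ ⊤) htop
    have h2 := Cfsg.Agent.S4143.card_mul_le_of_lt hpG (hge j hj1 hj2) fun h => hlt (h ▸ le_rfl)
    rw [Subgroup.card_top, hG, pow_succ] at h1
    rw [c.card 1 (by omega), show m + 1 - 1 = m by omega] at h2
    have h3 := Nat.le_of_mul_le_mul_right h1 (by norm_num)
    have : 0 < 3 ^ m := pow_pos (by norm_num) m
    omega
  have hrE : r ∉ E' := by
    rintro ⟨x, -, hx⟩
    have h : (1 : ↥A) = a' := congrArg SemidirectProduct.right hx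
    have h1 : a = 1 := (congrArg Subtype.val h).symm
    rw [h1, orderOf_one] at ha
    exact absurd ha (by norm_num)
  -- `r` lies in `T 1`
  have hr1 : r ∈ T 1 := by
    by_cases hW1 : W' ≤ T 1
    · obtain ⟨w, hw, hw'⟩ := SetLike.not_le_iff_exists.1 (show ¬ W' ≤ T (m + 1 - 3) from fun h => by
        have h' := hTcard (by omega) h
        rw [hW', show m + 1 - (m + 1 - 3) = 3 by omega] at h'
        norm_num at h')
      obtain ⟨j, hj, hj1, hj2⟩ := c.level (x := w) fun h => hw' (h ▸ one_mem _)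
      have hlo : 1 ≤ j := by
        by_contra h0
        obtain rfl : j = 0 := by omega
        exact hj2 (hW1 hw)
      have hhi : j + 4 ≤ m + 1 := by
        by_contra h0
        exact hw' (c.anti (by omega) hj1)
      rw [← hT1 j hlo (by omega), mem_twoStep]
      intro x hx
      obtain ⟨k, -, v, hv, rfl⟩ := c.gen hj hj1 hj2 hx
      have hrw : ⁅r, w⁆ ∈ T (j + 2) := c.anti (by omega) (hET.le (hr w hw))
      rw [← commute_mk, map_mul, map_pow]
      exact ((commute_mk.2 hrw).pow_right k).mul_right (commute_mk.2 (c.mem_step (by omega) hv r))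
    · obtain ⟨w, hw, hw'⟩ := SetLike.not_le_iff_exists.1 hW1
      obtain ⟨u, hu, hu'⟩ := c.exists_level (j := 1) (by omega)
      have l1 : ⁅w, u⁆ ∈ T 2 := comm_mem_symm.1 (c.mem_step le_rfl hu w) |> comm_mem_symm.1
      have l2 : ⁅w, u⁆ ∉ T 3 := fun h => by
        obtain ⟨k, -, v, hv, hsv⟩ := c.gen (j := 0) (by omega) (u := w) (c.zero ▸ Subgroup.mem_top w) hw'
          (c.zero ▸ Subgroup.mem_top s)
        refine d.exact c le_rfl (by omega) hu hu' ?_
        rw [← commute_mk, hsv, map_mul, map_pow]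
        exact ((commute_mk.2 h).pow_left k).mul_left (commute_mk.2 (c.anti (by omega) (c.comm_one hv hu)))
      have hwu : ⁅w, u⁆ ∈ W' := by
        rw [show ⁅w, u⁆ = w * (u * w⁻¹ * u⁻¹) by rw [commutatorElement_def]; simp only [mul_assoc]]
        exact W'.mul_mem hw (hW'n.conj_mem _ (W'.inv_mem hw) u)
      rcases Nat.lt_or_ge m 5 with hm5 | hm5
      swap
      · rw [← hT1 2 (by omega) (by omega), mem_twoStep]
        intro x hx
        obtain ⟨k, -, v, hv, rfl⟩ := c.gen (by omega) l1 l2 hx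
        have hrw : ⁅r, ⁅w, u⁆⁆ ∈ T 4 := c.anti (by omega) (hET.le (hr _ hwu))
        rw [← commute_mk, map_mul, map_pow]
        exact ((commute_mk.2 hrw).pow_right k).mul_right (commute_mk.2 (c.mem_step (by omega) hv r))
      · -- `L = W`, so the derived group is too small
        exfalso
        obtain rfl : m = 4 := by omega
        have hWtop : W = ⊤ := Subgroup.eq_top_of_card_eq W (by rw [hW, hm])
        have hsub : ∀ g : G, ∃ x ∈ W', ∃ i : ℕ, g = x * r ^ i := fun g => by
          obtain ⟨k, hk⟩ : ∃ k : ℤ, a ^ k = (g.right : MulAut L) := g.right.2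
          obtain ⟨i, hi⟩ : ∃ i : ℕ, a' ^ i = g.right := by
            have h : g.right ∈ Subgroup.zpowers a' := ⟨k, Subtype.ext (by simpa using hk)⟩
            exact (mem_powers_iff_mem_zpowers).2 h
          exact ⟨SemidirectProduct.inl g.left, ⟨g.left, hWtop ▸ Subgroup.mem_top _, rfl⟩, i, by
            rw [← map_pow, hi, SemidirectProduct.inl_left_mul_inr_right]⟩
        let π := QuotientGroup.mk' E'
        have hWW : ∀ x ∈ W', ∀ y ∈ W', Commute (π x) (π y) := by
          rintro _ ⟨x, hx, rfl⟩ _ ⟨y, hy, rfl⟩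
          refine commute_mk.2 ?_
          rw [← map_commutatorElement]
          refine ⟨⁅x, y⁆, ?_, rfl⟩
          have h1 : (x * y * x⁻¹) ^ 3 = y ^ 3 := by
            rw [conj_pow, ← (hcen _ (pow_mem_omega_one hy) _ hx).eq, mul_inv_cancel_right]
          have h2 := (pow_eq_one_iff' (hR := hR) (x * y * x⁻¹)⁻¹ y⁻¹).1 (by rw [inv_pow, inv_pow, h1])
          rwa [inv_inv, ← commutatorElement_def] at h2
        have hWr : ∀ x ∈ W', Commute (π r) (π x) := fun x hx => commute_mk.2 (hr x hx)
        have hab : ∀ g h : G, Commute (π g) (π h) := fun g h => by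
          obtain ⟨x, hx, i, rfl⟩ := hsub g
          obtain ⟨y, hy, k, rfl⟩ := hsub h
          rw [map_mul, map_mul, map_pow, map_pow]
          exact (((hWW x hx y hy).mul_right ((hWr x hx).symm.pow_right k))).mul_left
            (((hWr y hy).pow_left i).mul_right ((Commute.refl _).pow_pow i k))
        have hle : T 2 ≤ E' := by
          rw [hlcs 2 le_rfl, Subgroup.lowerCentralSeries_succ, Subgroup.lowerCentralSeries_zero, Subgroup.commutator_le]
          exact fun g _ h _ => commute_mk.1 (hab g h)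
        have h := Subgroup.card_le_of_le hle
        rw [c.card 2 (by omega), hE'] at h
        norm_num at h
  have hr3 : r ^ 3 = 1 := by
    rw [← map_pow, show a' ^ 3 = 1 from Subtype.ext (by
      simp only [SubmonoidClass.coe_pow, OneMemClass.coe_one]; exact ha ▸ pow_orderOf_eq_one a), map_one]
  obtain ⟨j, hj, hj1, hj2⟩ := c.level (x := r) fun h => hrE (h ▸ one_mem _)
  have hlo : 1 ≤ j := by
    by_contra h0
    obtain rfl : j = 0 := by omega
    exact hj2 hr1
  have hhi : j + 3 ≤ m + 1 := by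
    by_contra h0
    exact hrE (hET.ge (c.anti (by omega) hj1))
  have := (d.pow_level c (by omega) hlo hhi hj1 hj2).2
  rw [hr3] at this
  exact this (one_mem _)

/-- The criterion. -/
theorem move_omega_iff (hL : IsPGroup p L) (hp2 : p ≠ 2) (hmc : Cfsg.IsMetacyclic L)
    (hnc : ∀ C : Subgroup L, IsCyclic C → C.index ≠ p) (a : MulAut L) (ha : orderOf a = p)
    (m : ℕ) (hm : Nat.card L = p ^ m) :
    (∃ x : L, orderOf x = p ∧ a x ≠ x) ↔
    (p = 3 ∧ Group.nilpotencyClass (SemidirectProduct L ↥(Subgroup.zpowers a) (Subgroup.zpowers a).subtype) = m) := by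
  refine ⟨?_, fun h => exists_moved hL hp2 hmc hnc a ha m hm h.1 h.2⟩
  rintro ⟨x₀, hx₀, hmove⟩
  have hR := regular hL hp2 hmc
  haveI : Nontrivial L := ⟨⟨x₀, 1, fun e => hmove (by rw [e, map_one])⟩⟩
  obtain ⟨hE, -, -, -, -⟩ := layers hL hp2 hmc hnc hR
  have hap : a ^ p = 1 := ha ▸ pow_orderOf_eq_one a
  have hxp : x₀ ^ p = 1 := hx₀ ▸ pow_orderOf_eq_one x₀
  obtain ⟨hp3, hfixp⟩ := of_moved hL hp2 hmc hnc (hR := hR) a hap hxp hmove
  refine ⟨hp3, ?_⟩
  set E := omega hR 1
  set A := Subgroup.zpowers a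
  set G := SemidirectProduct L ↥A A.subtype
  haveI : Finite G := Finite.of_equiv _ (SemidirectProduct.equivProd (φ := A.subtype)).symm
  have hA : Nat.card A = p := (Nat.card_zpowers a).trans ha
  have hG : Nat.card G = p ^ (m + 1) := by rw [SemidirectProduct.card, hm, hA, pow_succ]
  let B : Subgroup G :=
    { carrier := {g | g.left ∈ E}
      one_mem' := one_mem E
      mul_mem' := fun {g h} hg hh => mul_mem (s := E) hg (aut_mem_omega _ hh)
      inv_mem' := fun {g} hg => aut_mem_omega _ (E.inv_mem hg) }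
  have hB : Nat.card B = p ^ 3 := by
    let e : B ≃ E × A :=
      { toFun := fun g => (⟨g.1.left, g.2⟩, g.1.right)
        invFun := fun q => ⟨⟨(q.1 : L), q.2⟩, q.1.2⟩
        left_inv := fun g => rfl
        right_inv := fun q => rfl }
    rw [Nat.card_congr e, Nat.card_prod, hE, hA, ← pow_succ]
  let a' : A := ⟨a, Subgroup.mem_zpowers a⟩
  have hrB : (SemidirectProduct.inr a' : G) ∈ B := one_mem E
  have hxB : (SemidirectProduct.inl x₀ : G) ∈ B := (mem_omega_one (hR := hR)).2 hxp
  have hna : ¬ IsMulCommutative B := fun h => by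
    have h1 : ((SemidirectProduct.inr a' : G) * SemidirectProduct.inl x₀).left =
        ((SemidirectProduct.inl x₀ : G) * SemidirectProduct.inr a').left :=
      congrArg (fun g : B => (g : G).left) (h.is_comm.comm ⟨_, hrB⟩ ⟨_, hxB⟩)
    change (1 : L) * a x₀ = x₀ * (1 : L) at h1
    rw [one_mul, mul_one] at h1
    exact hmove h1
  have := Cfsg.Agent.S4143.result (m + 1) hG B hB hna ?_
  · simpa using this
  intro g hg
  have h1 := congrArg SemidirectProduct.left (Subgroup.mem_centralizer_iff.1 hg _ hrB)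
  change (1 : L) * a g.left = g.left * (g.right : MulAut L) 1 at h1
  have h2 : a g.left = g.left := by simpa using h1
  exact (mem_omega_one (hR := hR)).2 (hfixp g.left h2)

end CfsgLib.MetaOmega
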